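import Mathlib

/-!
# Jordan's counting argument

A finite group in which all but a bounded-centraliser part is partitioned by sets attached to
non-normal subgroups of bounded index in their normalisers has bounded order.
-/

set_option autoImplicit false
set_option linter.unusedSectionVars false
set_option linter.style.haveILetI false

namespace CfsgLib.BrauerFeit

/-- The bound of the unit fraction lemma. -/
def phiBound : ℕ → ℕ → ℕ
  | L, 0 => L
  | L, t + 1 => phiBound (L * Nat.factorial ((t + 1) * L)) t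

theorem le_phiBound : ∀ (t L g : ℕ), 0 < L → 0 < g → ∀ (N : Fin t → ℕ), (∀ i, 0 < N i) →
    (∀ i, N i < g) → (∃ z : ℤ, (L : ℚ) * (1 / g - ∑ i, 1 / (N i : ℚ)) = z) →
    g ≤ phiBound L t := by
  intro t
  induction t with
  | zero =>
    intro L g hL hg N _ _ ⟨z, hz⟩
    simp only [Finset.univ_eq_empty, Finset.sum_empty, sub_zero, mul_one_div] at hz
    have hgq : (0 : ℚ) < g := by exact_mod_cast hg
    have hpos : (0 : ℚ) < z := by
      rw [← hz]; positivity
    have h1 : (1 : ℚ) ≤ z := by
      have : (1 : ℤ) ≤ z := by exact_mod_cast hpos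
      exact_mod_cast this
    rw [← hz, one_le_div hgq] at h1
    show g ≤ L
    exact_mod_cast h1
  | succ t ih =>
    intro L g hL hg N hN hlt ⟨z, hz⟩
    have hgq : (0 : ℚ) < g := by exact_mod_cast hg
    have hLq : (0 : ℚ) < L := by exact_mod_cast hL
    have hterm : ∀ i, (1 : ℚ) / g < 1 / (N i : ℚ) := fun i =>
      one_div_lt_one_div_of_lt (by exact_mod_cast hN i) (by exact_mod_cast hlt i)
    have h0 : (1 : ℚ) / g < ∑ i, 1 / (N i : ℚ) := lt_of_lt_of_le (hterm 0)
      (Finset.single_le_sum (f := fun i => 1 / (N i : ℚ)) (fun i _ => by positivity)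
        (Finset.mem_univ 0))
    have hneg : (z : ℚ) < 0 := by
      rw [← hz]
      exact mul_neg_of_pos_of_neg hLq (by linarith)
    have hz1 : (z : ℚ) ≤ -1 := by
      have : z ≤ -1 := by
        have : z < 0 := by exact_mod_cast hneg
        omega
      exact_mod_cast this
    obtain ⟨i, hi⟩ : ∃ i, N i ≤ (t + 1) * L := by
      by_contra hno
      push Not at hno
      have hb : ∀ i, (L : ℚ) * (1 / (N i : ℚ)) < 1 / (t + 1) := fun i => by
        have h : (((t + 1) * L : ℕ) : ℚ) < N i := by exact_mod_cast hno i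
        push_cast at h
        rw [mul_one_div, div_lt_div_iff₀ (by exact_mod_cast hN i) (by positivity)]
        linarith
      have hs : ∑ i, (L : ℚ) * (1 / (N i : ℚ)) < ∑ _i : Fin (t + 1), (1 : ℚ) / (t + 1) :=
        Finset.sum_lt_sum_of_nonempty Finset.univ_nonempty fun i _ => hb i
      rw [← Finset.mul_sum, Finset.sum_const, Finset.card_univ, Fintype.card_fin, nsmul_eq_mul,
        Nat.cast_add, Nat.cast_one, mul_one_div_cancel (by positivity)] at hs
      have hLg : 0 < (L : ℚ) * (1 / g) := by positivity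
      rw [mul_sub] at hz
      linarith
    obtain ⟨c, hc⟩ := Nat.dvd_factorial (hN i) hi
    refine ih (L * Nat.factorial ((t + 1) * L)) g (Nat.mul_pos hL (Nat.factorial_pos _)) hg
      (fun j => N (i.succAbove j)) (fun j => hN _) (fun j => hlt _)
      ⟨z * Nat.factorial ((t + 1) * L) + L * c, ?_⟩
    have hNq : (N i : ℚ) ≠ 0 := by exact_mod_cast (hN i).ne'
    rw [Fin.sum_univ_succAbove _ i] at hz
    push_cast
    rw [← hz, hc]
    push_cast
    field_simp
    ring

/-- The bound of the counting lemma. -/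
def countBound (I B : ℕ) : ℕ :=
  (Finset.range (2 * I + 1)).sup (phiBound (Nat.factorial (I + B)))

variable {Q : Type*} [Group Q] [Finite Q]

/-- Conjugate subgroup. -/
def cjS (g : Q) (W : Subgroup Q) : Subgroup Q := W.map (MulAut.conj g).toMonoidHom

theorem mem_cjS {g : Q} {W : Subgroup Q} {x : Q} : x ∈ cjS g W ↔ g⁻¹ * x * g ∈ W := by
  constructor
  · rintro ⟨w, hw, rfl⟩
    simpa [mul_assoc] using hw
  · intro h
    exact ⟨g⁻¹ * x * g, h, by simp [mul_assoc]⟩

theorem cjS_mul (g h : Q) (W : Subgroup Q) : cjS (g * h) W = cjS g (cjS h W) := by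
  ext x
  simp only [mem_cjS, mul_inv_rev, mul_assoc]

theorem cjS_one (W : Subgroup Q) : cjS 1 W = W := by
  ext x
  simp [mem_cjS]

theorem cjS_eq_self_iff (g : Q) (W : Subgroup Q) :
    cjS g W = W ↔ g ∈ Subgroup.normalizer (W : Set Q) := by
  rw [Subgroup.mem_normalizer_iff'']
  constructor
  · intro h x
    have := SetLike.ext_iff.1 h x
    rw [mem_cjS] at this
    exact this.symm
  · intro h
    ext x
    rw [mem_cjS]
    exact (h x).symm

theorem card_dvd_of_invariant (W : Subgroup Q) (X : Set Q) (hX : ∀ x ∈ X, ∀ w ∈ W, x * w ∈ X) :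
    Nat.card W ∣ Nat.card X := by
  have h : X = QuotientGroup.mk ⁻¹' ((QuotientGroup.mk : Q → Q ⧸ W) '' X) := by
    refine Set.Subset.antisymm (Set.subset_preimage_image _ _) ?_
    rintro x ⟨y, hy, hxy⟩
    have hw := QuotientGroup.eq.1 hxy
    have := hX y hy _ hw
    rwa [mul_inv_cancel_left] at this
  rw [h, Nat.card_congr (QuotientGroup.preimageMkEquivSubgroupProdSet W _), Nat.card_prod]
  exact dvd_mul_right _ _

theorem card_le_countBound (I B : ℕ) (Ws : Set (Subgroup Q)) (S : Subgroup Q → Set Q)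
    (hconj : ∀ W ∈ Ws, ∀ g : Q, cjS g W ∈ Ws)
    (heq : ∀ W ∈ Ws, ∀ g x : Q, x ∈ S W → g * x * g⁻¹ ∈ S (cjS g W))
    (hnn : ∀ W ∈ Ws, Subgroup.normalizer (W : Set Q) ≠ ⊤)
    (hbot : ∀ W ∈ Ws, W ≠ ⊥)
    (h1 : ∀ W ∈ Ws, (1 : Q) ∉ S W)
    (hcl : ∀ W ∈ Ws, ∀ x, x = 1 ∨ x ∈ S W → ∀ w ∈ W, x * w = 1 ∨ x * w ∈ S W)
    (hidx : ∀ W ∈ Ws, W.relIndex (Subgroup.normalizer (W : Set Q)) ≤ I)
    (hdisj : ∀ W ∈ Ws, ∀ W' ∈ Ws, ∀ x, x ∈ S W → x ∈ S W' → W = W')
    (hsmall : ∀ x : Q, x ≠ 1 → (∀ W ∈ Ws, x ∉ S W) →
      Nat.card (Subgroup.centralizer ({x} : Set Q)) ≤ B) :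
    Nat.card Q ≤ countBound I B := by
  classical
  let _ := Fintype.ofFinite Q
  letI act : MulAction Q (Subgroup Q) :=
    { smul := cjS, one_smul := cjS_one, mul_smul := cjS_mul }
  have hsmul : ∀ (g : Q) (W : Subgroup Q), g • W = cjS g W := fun _ _ => rfl
  have hstab : ∀ W : Subgroup Q, MulAction.stabilizer Q W = Subgroup.normalizer (W : Set Q) :=
    fun W => by
      ext g
      rw [MulAction.mem_stabilizer_iff, hsmul, cjS_eq_self_iff]
  haveI : Finite (Subgroup Q) := inferInstance
  set WF : Finset (Subgroup Q) := Ws.toFinite.toFinset with hWF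
  have hmemWF : ∀ W, W ∈ WF ↔ W ∈ Ws := fun W => Set.Finite.mem_toFinset _
  set sz : Subgroup Q → ℕ := fun W => ((S W).toFinite.toFinset).card with hsz
  set small : Finset Q := Finset.univ.filter fun x => x ≠ 1 ∧ ∀ W ∈ Ws, x ∉ S W with hsm
  set L := Nat.factorial (I + B) with hL
  have hdvd : ∀ {k : ℕ}, 0 < k → k ≤ I + B → k ∣ L := fun hk hk' => Nat.dvd_factorial hk hk'
  set g := Nat.card Q with hg
  have hgpos : 0 < g := Nat.card_pos
  -- the partition
  have hpart : g = 1 + small.card + ∑ W ∈ WF, sz W := by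
    have hu : (Finset.univ : Finset Q) =
        insert 1 (small ∪ WF.biUnion fun W => (S W).toFinite.toFinset) := by
      ext x
      simp only [Finset.mem_univ, true_iff, Finset.mem_insert, Finset.mem_union, hsm,
        Finset.mem_filter, true_and, Finset.mem_biUnion, hmemWF, Set.Finite.mem_toFinset]
      by_cases hx : x = 1
      · exact Or.inl hx
      · by_cases h : ∃ W ∈ Ws, x ∈ S W
        · exact Or.inr (Or.inr h)
        · push Not at h
          exact Or.inr (Or.inl ⟨hx, h⟩)
    rw [hg, Nat.card_eq_fintype_card, ← Finset.card_univ, hu, Finset.card_insert_of_notMem,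
      Finset.card_union_of_disjoint, Finset.card_biUnion]
    · ring
    · intro W hW W' hW' hne
      rw [Function.onFun, Finset.disjoint_left]
      intro x hx hx'
      rw [Set.Finite.mem_toFinset] at hx hx'
      exact hne (hdisj W ((hmemWF W).1 hW) W' ((hmemWF W').1 hW') x hx hx')
    · rw [Finset.disjoint_left]
      intro x hx hx'
      simp only [Finset.mem_biUnion, hmemWF, Set.Finite.mem_toFinset] at hx'
      obtain ⟨W, hW, hxW⟩ := hx'
      exact (Finset.mem_filter.1 hx).2.2 W hW hxW
    · simp only [Finset.mem_union, hsm, Finset.mem_filter, Finset.mem_biUnion, hmemWF,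
        Set.Finite.mem_toFinset]
      rintro (⟨-, h, -⟩ | ⟨W, hW, h⟩)
      · exact h rfl
      · exact h1 W hW h
  -- equivariance
  have hback : ∀ W ∈ Ws, ∀ y x : Q, y * x * y⁻¹ ∈ S (cjS y W) → x ∈ S W := by
    intro W hW y x h
    have := heq _ (hconj W hW y) y⁻¹ _ h
    rw [← cjS_mul, inv_mul_cancel, cjS_one] at this
    simpa [mul_assoc] using this
  have hszeq : ∀ W ∈ Ws, ∀ y : Q, sz (cjS y W) = sz W := by
    intro W hW y
    symm
    refine Finset.card_bij' (fun x _ => y * x * y⁻¹) (fun x _ => y⁻¹ * x * y) ?_ ?_ ?_ ?_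
    · intro x hx
      rw [Set.Finite.mem_toFinset] at hx ⊢
      exact heq W hW y x hx
    · intro x hx
      rw [Set.Finite.mem_toFinset] at hx ⊢
      exact hback W hW y _ (by simpa [mul_assoc] using hx)
    · intro x _
      simp [mul_assoc]
    · intro x _
      simp [mul_assoc]
  -- the small part
  have hsmalldvd : g ∣ L * small.card := by
    rw [Finset.card_eq_sum_card_image ConjClasses.mk small, Finset.mul_sum]
    refine Finset.dvd_sum fun c hc => ?_
    obtain ⟨x, hx, rfl⟩ := Finset.mem_image.1 hc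
    have hx' := (Finset.mem_filter.1 hx).2
    have hfib : small.filter (fun a => ConjClasses.mk a = ConjClasses.mk x) =
        Finset.univ.filter (fun a => ConjClasses.mk a = ConjClasses.mk x) := by
      ext a
      simp only [Finset.mem_filter, Finset.mem_univ, true_and, and_iff_right_iff_imp]
      intro ha
      obtain ⟨c, hc⟩ := isConj_iff.1 (ConjClasses.mk_eq_mk_iff_isConj.1 ha)
      refine Finset.mem_filter.2 ⟨Finset.mem_univ _, ?_, fun W hW hmem => ?_⟩
      · intro ha1
        apply hx'.1
        rw [← hc, ha1]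
        group
      · exact hx'.2 _ (hconj W hW c) (hc ▸ heq W hW c a hmem)
    rw [hfib]
    have hcent := hsmall x hx'.1 hx'.2
    obtain ⟨d, hd⟩ := hdvd (k := Nat.card (Subgroup.centralizer ({x} : Set Q))) Nat.card_pos
      (by omega)
    have hcard : (Finset.univ.filter fun a => ConjClasses.mk a = ConjClasses.mk x).card *
        Nat.card (Subgroup.centralizer ({x} : Set Q)) = g := by
      have h := Subgroup.index_mul_card (MulAction.stabilizer (ConjAct Q) x)
      rw [MulAction.index_stabilizer, ← Subgroup.nat_card_centralizer_nat_card_stabilizer,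
        ConjAct.orbit_eq_carrier_conjClasses, Nat.card_congr ConjAct.ofConjAct.toEquiv, ← hg] at h
      rw [← h]
      congr 1
      rw [← Set.ncard_coe_finset]
      congr 1
      ext a
      simp [ConjClasses.mem_carrier_iff_mk_eq]
    rw [hd, mul_comm (Nat.card _) d, mul_assoc, mul_comm (Nat.card _), hcard]
    exact dvd_mul_left _ _
  -- the orbits
  set r : Subgroup Q → MulAction.orbitRel.Quotient Q (Subgroup Q) :=
    fun W => Quotient.mk'' W with hr
  set O := WF.image r with hO
  have hrep : ∀ o : O, ∃ W ∈ Ws, r W = o.1 := fun o => by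
    obtain ⟨W, hW, h⟩ := Finset.mem_image.1 o.2
    exact ⟨W, (hmemWF W).1 hW, h⟩
  choose rep hrepW hrepr using hrep
  set N : O → ℕ := fun o => Nat.card (Subgroup.normalizer (rep o : Set Q)) with hNdef
  have hfiber : ∀ o : O, ((WF.filter fun W => r W = o.1).card * N o = g) ∧
      ∀ W ∈ WF.filter (fun W => r W = o.1), sz W = sz (rep o) := by
    intro o
    have hset : (↑(WF.filter fun W => r W = o.1) : Set (Subgroup Q)) =
        MulAction.orbit Q (rep o) := by
      ext W
      simp only [Finset.coe_filter, Set.mem_ofPred_eq, hmemWF]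
      rw [← hrepr o, hr, Quotient.eq'', MulAction.orbitRel_apply]
      constructor
      · exact fun h => h.2
      · intro h
        refine ⟨?_, h⟩
        obtain ⟨y, rfl⟩ := h
        exact hconj _ (hrepW o) y
    refine ⟨?_, fun W hW => ?_⟩
    · have h := Subgroup.index_mul_card (MulAction.stabilizer Q (rep o))
      rw [MulAction.index_stabilizer, ← hset, Set.ncard_coe_finset, hstab] at h
      exact h
    · have h : W ∈ MulAction.orbit Q (rep o) := by rw [← hset]; exact_mod_cast hW
      obtain ⟨y, rfl⟩ := h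
      exact hszeq _ (hrepW o) y
  have hsum : ∑ W ∈ WF, sz W = ∑ o : O, (WF.filter fun W => r W = o.1).card * sz (rep o) := by
    rw [← Finset.sum_fiberwise_of_maps_to (g := r) (t := O)
      fun W hW => Finset.mem_image_of_mem _ hW, ← Finset.sum_coe_sort O]
    refine Finset.sum_congr rfl fun o _ => ?_
    rw [Finset.sum_congr rfl (hfiber o).2, Finset.sum_const, smul_eq_mul]
  -- the local data
  have hloc : ∀ o : O, ∃ j i w : ℕ, 0 < j ∧ 0 < i ∧ i ≤ I ∧ 2 ≤ w ∧ N o = i * w ∧
      sz (rep o) + 1 = j * w := by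
    intro o
    have hW := hrepW o
    have hle : rep o ≤ Subgroup.normalizer (rep o : Set Q) := Subgroup.le_normalizer
    obtain ⟨j, hj⟩ := card_dvd_of_invariant (rep o) (insert 1 (S (rep o)))
      (fun x hx w hw => hcl _ hW x hx w hw)
    have hins : Nat.card (insert 1 (S (rep o)) : Set Q) = sz (rep o) + 1 := by
      rw [Nat.card_coe_set_eq, Set.ncard_insert_of_notMem (h1 _ hW),
        Set.ncard_eq_toFinset_card (S (rep o))]
    rw [hins] at hj
    refine ⟨j, (rep o).relIndex (Subgroup.normalizer (rep o : Set Q)), Nat.card (rep o), ?_,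
      Nat.pos_of_ne_zero (fun h0 => (Nat.card_pos (α := Subgroup.normalizer (rep o : Set Q))).ne'
        (by rw [← Subgroup.relIndex_bot_left, ← Subgroup.relIndex_mul_relIndex ⊥ (rep o) _ bot_le hle, h0,
          mul_zero])), hidx _ hW, ?_, ?_, ?_⟩
    · rcases Nat.eq_zero_or_pos j with h | h
      · rw [h, mul_zero] at hj; omega
      · exact h
    · have := (Subgroup.one_lt_card_iff_ne_bot (rep o)).2 (hbot _ hW)
      omega
    · show Nat.card (Subgroup.normalizer (rep o : Set Q)) = _
      rw [← Subgroup.relIndex_bot_left, ← Subgroup.relIndex_bot_left,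
        ← Subgroup.relIndex_mul_relIndex ⊥ (rep o) _ bot_le hle, mul_comm]
    · rw [hj, mul_comm]
  choose j i w hj hi hiI hw hNo hszo using hloc
  -- few orbits
  have hI : ∀ o : O, g ≤ 2 * I * ((WF.filter fun W => r W = o.1).card * sz (rep o)) := by
    intro o
    rw [← (hfiber o).1, hNo]
    have h2 : i o * w o ≤ 2 * I * sz (rep o) := by
      have a : w o ≤ 2 * sz (rep o) := by
        have : w o ≤ j o * w o := Nat.le_mul_of_pos_left _ (hj o)
        have := hszo o
        have := hw o
        omega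
      calc i o * w o ≤ I * (2 * sz (rep o)) := Nat.mul_le_mul (hiI o) a
        _ = 2 * I * sz (rep o) := by ring
    calc (WF.filter fun W => r W = o.1).card * (i o * w o)
        ≤ (WF.filter fun W => r W = o.1).card * (2 * I * sz (rep o)) :=
          Nat.mul_le_mul_left _ h2
      _ = _ := by ring
  have ht : Fintype.card O ≤ 2 * I := by
    have h : ∑ _o : O, g ≤ 2 * I * g :=
      calc ∑ _o : O, g ≤ ∑ o : O, 2 * I * ((WF.filter fun W => r W = o.1).card * sz (rep o)) :=
            Finset.sum_le_sum fun o _ => hI o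
        _ = 2 * I * ∑ W ∈ WF, sz W := by rw [hsum, Finset.mul_sum]
        _ ≤ 2 * I * g := Nat.mul_le_mul_left _ (by omega)
    rw [Finset.sum_const, Finset.card_univ, smul_eq_mul] at h
    exact Nat.le_of_mul_le_mul_right h hgpos
  have hlt : ∀ o : O, N o < g := by
    intro o
    refine lt_of_le_of_ne (Subgroup.card_le_card_group _) fun h => hnn _ (hrepW o) ?_
    exact Subgroup.eq_top_of_card_eq _ h
  -- the equation
  obtain ⟨a, ha⟩ := hsmalldvd
  have hdo : ∀ o : O, ∃ c, L = i o * c := fun o => hdvd (hi o) (by have := hiI o; omega)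
  choose c hc using hdo
  have hgq : (g : ℚ) ≠ 0 := by exact_mod_cast hgpos.ne'
  have key : (L : ℚ) * (1 / g - ∑ o : O, 1 / (N o : ℚ)) =
      ((L : ℤ) - a - ∑ o : O, (c o : ℤ) * j o : ℤ) := by
    have hterm : ∀ o : O, (L : ℚ) *
        ((((WF.filter fun W => r W = o.1).card * sz (rep o) : ℕ) : ℚ) / g + 1 / (N o : ℚ)) =
        (c o : ℚ) * j o := by
      intro o
      have hg' := (hfiber o).1
      rw [hNo] at hg' ⊢
      have hiq : (i o : ℚ) ≠ 0 := by exact_mod_cast (hi o).ne'
      have hwq : (w o : ℚ) ≠ 0 := by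
        have := hw o
        exact_mod_cast (show w o ≠ 0 by omega)
      have hx : ((WF.filter fun W => r W = o.1).card : ℚ) ≠ 0 := by
        intro h0
        apply hgq
        rw [← hg']
        push_cast
        rw [h0, zero_mul]
      have hs : (sz (rep o) : ℚ) = j o * w o - 1 := by
        have := hszo o
        have h' : (sz (rep o) : ℚ) + 1 = j o * w o := by exact_mod_cast this
        linarith
      rw [hc o, ← hg']
      push_cast
      rw [hs]
      field_simp
      ring
    have hga : (L : ℚ) * small.card / g = a := by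
      rw [div_eq_iff hgq, mul_comm (a : ℚ)]
      exact_mod_cast ha
    have hgsum : (g : ℚ) = 1 + small.card + ((∑ W ∈ WF, sz W : ℕ) : ℚ) := by exact_mod_cast hpart
    rw [hsum, Nat.cast_sum] at hgsum
    push_cast
    rw [← Finset.sum_congr rfl fun o _ => hterm o, ← Finset.mul_sum, Finset.sum_add_distrib,
      ← Finset.sum_div, ← hga]
    field_simp
    rw [hgsum]
    push_cast
    ring
  refine le_trans (le_phiBound (Fintype.card O) L g (Nat.factorial_pos _) hgpos
    (fun t => N ((Fintype.equivFin O).symm t)) (fun t => Nat.card_pos) (fun t => hlt _)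
    ⟨_, by rw [Equiv.sum_comp (Fintype.equivFin O).symm (fun o => 1 / (N o : ℚ))]; exact key⟩) ?_
  exact Finset.le_sup (f := phiBound (Nat.factorial (I + B)))
    (Finset.mem_range.2 (by omega))

end CfsgLib.BrauerFeit
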