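import Cfsg.Agent.Lib.BrauerFeit.Stable

/-!
# The theorem of Brauer and Feit

A finite linear group over a field of characteristic `p` whose Sylow `p`-subgroups are small has an
abelian subgroup of small index.
-/

set_option autoImplicit false
set_option linter.unusedSectionVars false
set_option linter.style.haveILetI false

namespace CfsgLib.BrauerFeit

universe u v w

/-- The index bound from bounded centralisers. -/
def stepBound (q d J : ℕ) : ℕ :=
  Nat.factorial (d * d) * Nat.factorial q * J * J ^ (d * d) +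
    countBound (Nat.factorial (d * d) * Nat.factorial q * J * J ^ (d * d))
      (d * (J * J ^ (d * d)))

/-- The bound of the theorem of Brauer and Feit. -/
def bfBound (q : ℕ) : ℕ → ℕ
  | 0 => 1
  | d + 1 => stepBound q (d + 1) (bfBound q d * bfBound q d * Nat.factorial q * q + 1) + bfBound q d

variable {K : Type v} [Field K] [IsAlgClosed K] {p : ℕ} [Fact p.Prime] [CharP K p] {m : ℕ}

/-- The inductive statement. -/
def BFProp (p m : ℕ) (K : Type v) [Field K] (d b : ℕ) : Prop :=
  ∀ (V : Type w) [AddCommGroup V] [Module K V] [FiniteDimensional K V],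
    Module.finrank K V ≤ d → ∀ (G : Type u) [Group G] [Finite G],
      (Nat.card G).factorization p ≤ m → ∀ ρ : Representation K G V,
        ∃ A : Subgroup G, A.index ≤ b ∧ ∀ a ∈ A, ∀ b ∈ A, ρ (a * b) = ρ (b * a)

theorem factorization_le_of_dvd {a b : ℕ} (ha : a ≠ 0) (hb : b ≠ 0) (h : a ∣ b)
    (hm : b.factorization p ≤ m) : a.factorization p ≤ m :=
  le_trans ((Nat.factorization_le_iff_dvd ha hb).2 h p) hm

theorem pow_char_eq_one_of_sq {V : Type w} [AddCommGroup V] [Module K V] [FiniteDimensional K V]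
    {G : Type u} [Group G] (ρ : Representation K G V) (hρ : Function.Injective ρ) {g : G}
    (U : Submodule K V) (hfix : ∀ u ∈ U, ρ g u = u) (hmove : ∀ v, ρ g v - v ∈ U) : g ^ p = 1 := by
  apply hρ
  rw [map_pow, map_one]
  rcases subsingleton_or_nontrivial (Module.End K V) with hs | hs
  · exact Subsingleton.elim _ _
  · haveI : CharP (Module.End K V) p := charP_of_injective_algebraMap
      (RingHom.injective (algebraMap K (Module.End K V))) p
    have h2 : (ρ g - 1) ^ 2 = 0 := by
      apply LinearMap.ext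
      intro v
      rw [pow_two, Module.End.mul_apply, LinearMap.sub_apply, LinearMap.sub_apply,
        Module.End.one_apply, hfix _ (hmove v), Module.End.one_apply, sub_self,
        LinearMap.zero_apply]
    have h' := sub_pow_char_of_commute (p := p) (Commute.one_right (ρ g))
    rw [one_pow, pow_eq_zero_of_le (Fact.out : p.Prime).two_le h2] at h'
    exact sub_eq_zero.1 h'.symm

/-- A subgroup leaving a proper nonzero subspace invariant. -/
theorem exists_abelian_of_invariant {d b : ℕ} (ih : BFProp.{u, v, w} p m K d b)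
    {V : Type w} [AddCommGroup V] [Module K V] [FiniteDimensional K V]
    (hd : Module.finrank K V ≤ d + 1) {G : Type u} [Group G] [Finite G]
    (hm : (Nat.card G).factorization p ≤ m) (ρ : Representation K G V) (hρ : Function.Injective ρ)
    (H : Subgroup G) (U : Submodule K V) (hU : U ≠ ⊥) (hU' : U ≠ ⊤)
    (hinv : ∀ g ∈ H, ∀ v ∈ U, ρ g v ∈ U) :
    ∃ D ≤ H, D ≤ Subgroup.centralizer (D : Set G) ∧
      D.relIndex H ≤ b * b * Nat.factorial (p ^ m) * p ^ m := by
  classical
  have hmH : (Nat.card H).factorization p ≤ m :=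
    factorization_le_of_dvd Nat.card_pos.ne' Nat.card_pos.ne' (Subgroup.card_subgroup_dvd_card H) hm
  let ρU : Representation K H U :=
    { toFun := fun g => (ρ (g : G)).restrict (hinv g g.2)
      map_one' := LinearMap.ext fun x => Subtype.ext (by simp)
      map_mul' := fun a b => LinearMap.ext fun x => Subtype.ext (by simp) }
  let ρQ : Representation K H (V ⧸ U) :=
    { toFun := fun g => U.mapQ U (ρ (g : G)) (fun v hv => hinv g g.2 v hv)
      map_one' := Submodule.linearMap_qext _ (LinearMap.ext fun x => by simp)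
      map_mul' := fun a b => Submodule.linearMap_qext _ (LinearMap.ext fun x => by simp) }
  have hfU : Module.finrank K U ≤ d := by
    have := Submodule.finrank_lt hU'
    omega
  have hfQ : Module.finrank K (V ⧸ U) ≤ d := by
    have h1 := U.finrank_quotient_add_finrank
    have h2 : 0 < Module.finrank K U := Nat.pos_of_ne_zero fun h =>
      hU (Submodule.finrank_eq_zero.1 h)
    omega
  obtain ⟨A1, hA1, hA1c⟩ := ih U hfU H hmH ρU
  obtain ⟨A2, hA2, hA2c⟩ := ih (V ⧸ U) hfQ H hmH ρQ
  have hA0i : (A1 ⊓ A2).index ≤ b * b :=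
    Subgroup.index_inf_le.trans (Nat.mul_le_mul hA1 hA2)
  -- the unipotent kernel
  let Un : Subgroup H := ρU.toHomUnits.ker ⊓ ρQ.toHomUnits.ker
  have hUexp : ∀ x ∈ Un, x ^ p = 1 := by
    rintro x ⟨hx1, hx2⟩
    apply Subtype.ext
    have h1 : ρU x = 1 := congrArg Units.val (MonoidHom.mem_ker.1 hx1)
    have h2 : ρQ x = 1 := congrArg Units.val (MonoidHom.mem_ker.1 hx2)
    exact pow_char_eq_one_of_sq ρ hρ U
      (fun u hu => congrArg Subtype.val (LinearMap.congr_fun h1 ⟨u, hu⟩))
      (fun v => (Submodule.Quotient.eq U).1 (LinearMap.congr_fun h2 (Submodule.Quotient.mk v)))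
  have hUnp : IsPGroup p Un := fun ⟨x, hx⟩ =>
    ⟨1, Subtype.ext (show x ^ p ^ 1 = 1 by rw [pow_one]; exact hUexp x hx)⟩
  obtain ⟨kU, hkU, hUcard⟩ := card_le_of_isPGroup hmH hUnp
  have hcomm : ∀ a ∈ A1 ⊓ A2, ∀ c ∈ A1 ⊓ A2, a * c * a⁻¹ * c⁻¹ ∈ Un := by
    intro a ha c hc
    refine ⟨MonoidHom.mem_ker.2 (Units.ext ?_), MonoidHom.mem_ker.2 (Units.ext ?_)⟩
    · show ρU (a * c * a⁻¹ * c⁻¹) = 1
      rw [mul_assoc (a * c), map_mul, hA1c a ha.1 c hc.1, ← map_mul]
      simp [mul_assoc]
    · show ρQ (a * c * a⁻¹ * c⁻¹) = 1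
      rw [mul_assoc (a * c), map_mul, hA2c a ha.2 c hc.2, ← map_mul]
      simp [mul_assoc]
  -- the class two subgroup
  let C0 : Subgroup H := (A1 ⊓ A2) ⊓ Subgroup.centralizer (Un : Set H)
  have hC0i : C0.index ≤ b * b * Nat.factorial (p ^ m) := by
    refine Subgroup.index_inf_le.trans (Nat.mul_le_mul hA0i ?_)
    haveI : Un.Normal := Subgroup.normal_inf_normal _ _
    have hle : (MulAction.toPermHom (ConjAct H) Un).ker.comap
        (ConjAct.toConjAct (G := H)).toMonoidHom ≤ Subgroup.centralizer (Un : Set H) := by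
      intro g hg
      rw [Subgroup.mem_centralizer_iff]
      intro y hy
      have h : (ConjAct.toConjAct g) • (⟨y, hy⟩ : Un) = ⟨y, hy⟩ :=
        Equiv.ext_iff.1 (MonoidHom.mem_ker.1 (Subgroup.mem_comap.1 hg)) _
      have h' : g * y * g⁻¹ = y := congrArg Subtype.val h
      calc y * g = g * y * g⁻¹ * g := by rw [h']
        _ = g * y := by group
    refine (Nat.le_of_dvd (Nat.pos_of_ne_zero Subgroup.index_ne_zero_of_finite)
      (Subgroup.index_dvd_of_le hle)).trans ?_
    rw [Subgroup.index_comap_of_surjective _ ConjAct.toConjAct.surjective, Subgroup.index_ker]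
    refine (Subgroup.card_le_card_group _).trans ?_
    rw [Nat.card_perm, hUcard]
    exact Nat.factorial_le (Nat.pow_le_pow_right (Fact.out : p.Prime).pos hkU)
  have hpc : ∀ x : C0, ∀ y : C0, x ^ p * y = y * x ^ p := by
    intro x y
    apply Subtype.ext
    have hu : (x : H) * y * (x : H)⁻¹ * (y : H)⁻¹ ∈ Un := hcomm _ x.2.1 _ y.2.1
    set u := (x : H) * y * (x : H)⁻¹ * (y : H)⁻¹ with hu'
    have hcx : Commute u (x : H) := Subgroup.mem_centralizer_iff.1 x.2.2 u hu
    have hcy : Commute u (y : H) := Subgroup.mem_centralizer_iff.1 y.2.2 u hu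
    have h1 : (y : H)⁻¹ * x * y = u * (x : H) := by
      calc (y : H)⁻¹ * x * y = (y : H)⁻¹ * (u * y) * x := by rw [hu']; group
        _ = (y : H)⁻¹ * (y * u) * x := by rw [hcy.eq]
        _ = u * x := by group
    have h2 : (y : H)⁻¹ * (x : H) ^ p * y = (x : H) ^ p := by
      calc (y : H)⁻¹ * (x : H) ^ p * y = ((y : H)⁻¹ * x * y) ^ p := by
            have := conj_pow (i := p) (a := (y : H)⁻¹) (b := (x : H))
            rw [inv_inv] at this
            exact this.symm
        _ = _ := by rw [h1, hcx.mul_pow, hUexp _ hu, one_mul]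
    show (x : H) ^ p * y = y * (x : H) ^ p
    calc (x : H) ^ p * y = y * ((y : H)⁻¹ * (x : H) ^ p * y) := by group
      _ = y * (x : H) ^ p := by rw [h2]
  have hZi : (Subgroup.center C0).index ≤ p ^ m := by
    have hq : IsPGroup p (C0 ⧸ Subgroup.center C0) := fun z => by
      obtain ⟨x, rfl⟩ := QuotientGroup.mk'_surjective _ z
      refine ⟨1, ?_⟩
      rw [pow_one, ← map_pow, QuotientGroup.mk'_apply, QuotientGroup.eq_one_iff,
        Subgroup.mem_center_iff]
      exact fun y => (hpc x y).symm
    obtain ⟨k, hk⟩ := IsPGroup.iff_card.1 hq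
    rw [Subgroup.index_eq_card, hk]
    refine Nat.pow_le_pow_right (Fact.out : p.Prime).pos ?_
    have h := factorization_le_of_dvd (p := p) (m := m) (a := Nat.card (C0 ⧸ Subgroup.center C0))
      Nat.card_pos.ne' Nat.card_pos.ne'
      ((Subgroup.card_quotient_dvd_card _).trans (Subgroup.card_subgroup_dvd_card C0)) hmH
    rwa [hk, (Fact.out : p.Prime).factorization_pow, Finsupp.single_eq_same] at h
  refine ⟨((Subgroup.center C0).map C0.subtype).map H.subtype, Subgroup.map_subtype_le _, ?_, ?_⟩
  · rintro x ⟨x1, ⟨x0, hx0, rfl⟩, rfl⟩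
    rw [Subgroup.mem_centralizer_iff]
    rintro y ⟨y1, ⟨y0, -, rfl⟩, rfl⟩
    show ((y0 : H) : G) * ((x0 : H) : G) = ((x0 : H) : G) * ((y0 : H) : G)
    exact congrArg (fun z : C0 => ((z : H) : G)) (Subgroup.mem_center_iff.1 hx0 y0)
  · rw [Subgroup.relIndex, Subgroup.subgroupOf,
      Subgroup.comap_map_eq_self_of_injective H.subtype_injective, Subgroup.index_map_subtype,
      mul_comm]
    exact Nat.mul_le_mul hC0i hZi

/-- Jordan's argument. -/
theorem exists_abelian_of_centralizers {V : Type w} [AddCommGroup V] [Module K V]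
    [FiniteDimensional K V] {G : Type u} [Group G] [Finite G]
    (hm : (Nat.card G).factorization p ≤ m) (ρ : Representation K G V) (hρ : Function.Injective ρ)
    (Z : Subgroup G) (hZ : ∀ g, g ∈ Z ↔ ∃ c : K, ρ g = c • (1 : Module.End K V))
    {J : ℕ} (hJ : 0 < J) {d : ℕ} (hd : Module.finrank K V ≤ d)
    (hC : ∀ s : G, s ∉ Z → ∃ D : Subgroup G, D ≤ Subgroup.centralizer ({s} : Set G) ∧
      D ≤ Subgroup.centralizer (D : Set G) ∧
      D.relIndex (Subgroup.centralizer ({s} : Set G)) ≤ J) :
    ∃ A : Subgroup G, A ≤ Subgroup.centralizer (A : Set G) ∧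
      A.index ≤ stepBound (p ^ m) d J := by
  classical
  set I := Nat.factorial (d * d) * Nat.factorial (p ^ m) * J * J ^ (d * d) with hI
  have hZc : Z ≤ Subgroup.center G := fun z hz => by
    obtain ⟨c, hc⟩ := (hZ z).1 hz
    refine Subgroup.mem_center_iff.2 fun g => hρ ?_
    rw [map_mul, map_mul, hc, mul_smul_comm, smul_mul_assoc, mul_one, one_mul]
  haveI hZn : Z.Normal := ⟨fun z hz g => by
    rwa [Subgroup.mem_center_iff.1 (hZc hz) g, mul_inv_cancel_right]⟩
  have hZC : ∀ H : Subgroup G, Z ≤ Subgroup.centralizer (H : Set G) := fun H =>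
    hZc.trans (Subgroup.center_le_centralizer _)
  have hJd : ∀ {x : ℕ}, x ≤ J ^ (Module.finrank K V * Module.finrank K V) → x ≤ J ^ (d * d) :=
    fun h => h.trans (Nat.pow_le_pow_right hJ (Nat.mul_le_mul hd hd))
  -- normalisers of classes
  have hWidx : ∀ E, Stable Z J E →
      (cls Z J E).relIndex (Subgroup.normalizer (cls Z J E : Set G)) ≤ I := by
    intro E hE
    set W := cls Z J E with hW
    have hWab : W ≤ Subgroup.centralizer (W : Set G) := cls_abelian hC hZc hE
    obtain ⟨s, hs, hsZ⟩ := SetLike.not_le_iff_exists.1 hE.2.1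
    obtain ⟨D, hD, hDab, hDrel⟩ := hC s hsZ
    have hsW : s ∈ W := le_cls hE hs
    have hCle : Subgroup.centralizer (W : Set G) ≤ Subgroup.centralizer ({s} : Set G) :=
      Subgroup.centralizer_le (Set.singleton_subset_iff.2 hsW)
    set D1 := (D ⊓ Subgroup.centralizer (W : Set G)) ⊔ W with hD1
    have hD1ab : D1 ≤ Subgroup.centralizer (D1 : Set G) :=
      le_centralizer_sup ((inf_le_left.trans hDab).trans
        (Subgroup.centralizer_le fun x hx => hx.1)) hWab inf_le_right
    have hD1C : D1 ≤ Subgroup.centralizer (W : Set G) := sup_le inf_le_right hWab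
    have h1 : D1.relIndex (Subgroup.centralizer (W : Set G)) ≤ J := by
      refine (Nat.le_of_dvd ?_ (Subgroup.relIndex_dvd_of_le_left _
        (le_sup_left : D ⊓ Subgroup.centralizer (W : Set G) ≤ D1))).trans ?_
      · exact Nat.pos_of_ne_zero Subgroup.index_ne_zero_of_finite
      rw [Subgroup.inf_relIndex_right]
      exact (Subgroup.relIndex_le_of_le_right hCle Subgroup.index_ne_zero_of_finite).trans hDrel
    have h2 : W.relIndex D1 ≤ J ^ (d * d) := by
      obtain ⟨F, hF, hFrel, hgood⟩ := exists_good ρ hρ hJ D1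
      refine (Nat.le_of_dvd (Nat.pos_of_ne_zero Subgroup.index_ne_zero_of_finite)
        (Subgroup.relIndex_dvd_of_le_left _ ?_)).trans (hJd hFrel)
      by_cases hFZ : F ≤ Z
      · exact hFZ.trans le_sup_left
      · refine le_sup_of_le_right (le_sSup ⟨⟨hF.trans (hD1ab.trans
          (Subgroup.centralizer_le hF)), hFZ, hgood⟩, ?_⟩)
        exact (hF.trans hD1C).trans (Subgroup.centralizer_le (le_cls hE))
    have hCN : Subgroup.centralizer (W : Set G) ≤ Subgroup.normalizer (W : Set G) :=
      Subgroup.centralizer_le_normalizer _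
    rw [← Subgroup.relIndex_mul_relIndex W D1 _ le_sup_right (hD1C.trans hCN),
      ← Subgroup.relIndex_mul_relIndex D1 _ _ hD1C hCN, hI]
    have h3 := relIndex_centralizer_le (p := p) ρ hρ hm W hWab
    rw [sq] at h3
    calc W.relIndex D1 * (D1.relIndex (Subgroup.centralizer (W : Set G)) *
          (Subgroup.centralizer (W : Set G)).relIndex (Subgroup.normalizer (W : Set G)))
        ≤ J ^ (d * d) * (J * (Nat.factorial (d * d) * Nat.factorial (p ^ m))) :=
          Nat.mul_le_mul h2 (Nat.mul_le_mul h1 (h3.trans (Nat.mul_le_mul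
            (Nat.factorial_le (Nat.mul_le_mul hd hd)) le_rfl)))
      _ = _ := by ring
  by_cases hn : ∃ E, Stable Z J E ∧ Subgroup.normalizer (cls Z J E : Set G) = ⊤
  · obtain ⟨E, hE, hN⟩ := hn
    refine ⟨cls Z J E, cls_abelian hC hZc hE, ?_⟩
    have := hWidx E hE
    rw [hN, Subgroup.relIndex_top_right] at this
    exact this.trans (Nat.le_add_right _ _)
  · push Not at hn
    refine ⟨Z, hZC Z, le_trans ?_ (Nat.le_add_left _ _)⟩
    rw [Subgroup.index_eq_card]
    set π := QuotientGroup.mk' Z with hπ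
    have hker : π.ker = Z := QuotientGroup.ker_mk' Z
    have hsurj : Function.Surjective π := QuotientGroup.mk'_surjective Z
    refine card_le_countBound I (d * (J * J ^ (d * d)))
      {Wb | ∃ E, Stable Z J E ∧ Wb = (cls Z J E).map π}
      (fun Wb => {x | ∃ s E, π s = x ∧ s ∉ Z ∧ Stable Z J E ∧
        s ∈ Subgroup.centralizer (E : Set G) ∧ (cls Z J E).map π = Wb})
      ?_ ?_ ?_ ?_ ?_ ?_ ?_ ?_ ?_
    · rintro _ ⟨E, hE, rfl⟩ x
      obtain ⟨g, rfl⟩ := hsurj x
      exact ⟨cjS g E, stable_map hZc g hE, by rw [cjS_map_mk, cls_map hZc]⟩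
    · rintro Wb - x y ⟨s, E, rfl, hsZ, hE, hsE, rfl⟩
      obtain ⟨g, rfl⟩ := hsurj x
      refine ⟨g * s * g⁻¹, cjS g E, by simp, fun h => hsZ ?_, stable_map hZc g hE, ?_,
        by rw [cjS_map_mk, cls_map hZc]⟩
      · have := hZn.conj_mem _ h g⁻¹
        simpa [mul_assoc] using this
      · exact (mem_centralizer_map_iff _ (MulAut.conj g).bijective E s).2 hsE
    · rintro _ ⟨E, hE, rfl⟩ htop
      apply hn E hE
      rw [eq_top_iff]
      intro g _
      have h : π g ∈ Subgroup.normalizer ((cls Z J E).map π : Set (G ⧸ Z)) := by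
        rw [htop]; trivial
      rw [← cjS_eq_self_iff, cjS_map_mk] at h
      rw [← cjS_eq_self_iff]
      exact map_mk_inj Z (by rw [cls_map hZc]; exact le_sup_left) le_sup_left h
    · rintro _ ⟨E, hE, rfl⟩ hbot
      rw [Subgroup.map_eq_bot_iff, hker] at hbot
      exact hE.2.1 ((le_cls hE).trans hbot)
    · rintro _ - ⟨s, E, hs1, hsZ, -⟩
      exact hsZ (hker ▸ MonoidHom.mem_ker.2 hs1)
    · rintro _ ⟨E, hE, rfl⟩ x hx w ⟨w0, hw0, rfl⟩
      by_cases hz : x * π w0 = 1
      · exact Or.inl hz
      · right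
        have hwab := cls_abelian hC hZc hE
        rcases hx with rfl | ⟨s, E', rfl, hsZ, hE', hsE', heq⟩
        · rw [one_mul] at hz ⊢
          exact ⟨w0, E, rfl, fun h => hz (MonoidHom.mem_ker.1 (hker.symm ▸ h)), hE,
            Subgroup.centralizer_le (le_cls hE) (hwab hw0), rfl⟩
        · have hcls : cls Z J E' = cls Z J E := map_mk_inj Z le_sup_left le_sup_left heq
          refine ⟨s * w0, E', map_mul _ _ _, fun h => hz ?_, hE', ?_, heq⟩
          · rw [← map_mul]
            exact MonoidHom.mem_ker.1 (hker.symm ▸ h)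
          · refine Subgroup.mul_mem _ hsE' (Subgroup.centralizer_le (le_cls hE') ?_)
            rw [hcls]
            exact hwab hw0
    · rintro _ ⟨E, hE, rfl⟩
      have hN : Subgroup.normalizer ((cls Z J E).map π : Set (G ⧸ Z)) =
          (Subgroup.normalizer (cls Z J E : Set G)).map π := by
        refine le_antisymm (fun x hx => ?_) (Subgroup.le_normalizer_map π)
        obtain ⟨g, rfl⟩ := hsurj x
        rw [← cjS_eq_self_iff, cjS_map_mk] at hx
        refine Subgroup.mem_map_of_mem π ((cjS_eq_self_iff _ _).1 ?_)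
        exact map_mk_inj Z (by rw [cls_map hZc]; exact le_sup_left) le_sup_left hx
      have hZW : Z ≤ cls Z J E := le_sup_left
      rw [hN, Subgroup.relIndex_map_map, hker, sup_eq_left.2 hZW,
        sup_eq_left.2 (hZW.trans Subgroup.le_normalizer)]
      exact hWidx E hE
    · rintro _ - _ - x ⟨s, E, rfl, hsZ, hE, hsE, rfl⟩ ⟨s', E', heq, hsZ', hE', hsE', rfl⟩
      have hmem : s' ∈ Subgroup.centralizer (E : Set G) := by
        have hz : s⁻¹ * s' ∈ Z := QuotientGroup.eq.1 heq.symm
        have : s * (s⁻¹ * s') = s' := mul_inv_cancel_left s s'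
        rw [← this]
        exact Subgroup.mul_mem _ hsE (hZC E hz)
      rw [cls_eq hC hE hE' (commute_of_common hC hsZ' hE hE' hmem hsE')]
    · intro x hx1 hx
      obtain ⟨s, rfl⟩ := hsurj x
      have hsZ : s ∉ Z := fun h => hx1 (MonoidHom.mem_ker.1 (hker.symm ▸ h))
      set T := Subgroup.centralizer ({s} : Set G) with hT
      obtain ⟨D, hD, hDab, hDrel⟩ := hC s hsZ
      obtain ⟨F, hF, hFrel, hgood⟩ := exists_good ρ hρ hJ D
      have hFZ : F ≤ Z := by
        by_contra hFZ
        have hFs : Stable Z J F := ⟨hF.trans (hDab.trans (Subgroup.centralizer_le hF)), hFZ, hgood⟩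
        refine hx _ ⟨F, hFs, rfl⟩ ⟨s, F, rfl, hsZ, hFs, ?_, rfl⟩
        exact Subgroup.mem_centralizer_iff.2 fun f hf =>
          Subgroup.mem_centralizer_singleton_iff.1 (hD (hF hf))
      have hcardT : Nat.card T ≤ J * J ^ (d * d) * Nat.card Z := by
        rw [← Subgroup.relIndex_bot_left, ← Subgroup.relIndex_mul_relIndex ⊥ D T bot_le hD,
          ← Subgroup.relIndex_mul_relIndex ⊥ F D bot_le hF, Subgroup.relIndex_bot_left]
        calc Nat.card F * F.relIndex D * D.relIndex T
            ≤ Nat.card Z * J ^ (d * d) * J :=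
              Nat.mul_le_mul (Nat.mul_le_mul (Subgroup.card_le_of_le hFZ) (hJd hFrel)) hDrel
          _ = _ := by ring
      -- the centraliser of the coset
      set T' := (Subgroup.centralizer ({π s} : Set (G ⧸ Z))).comap π with hT'
      have hTT' : T ≤ T' := fun g hg => by
        rw [hT', Subgroup.mem_comap, Subgroup.mem_centralizer_singleton_iff, ← map_mul, ← map_mul,
          Subgroup.mem_centralizer_singleton_iff.1 hg]
      obtain ⟨μ, hμ⟩ : ∃ μ, Module.End.HasEigenvalue (ρ s) μ := by
        rcases subsingleton_or_nontrivial V with hs | hs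
        · exact absurd ((hZ s).2 ⟨1, LinearMap.ext fun v => Subsingleton.elim _ _⟩) hsZ
        · exact Module.End.exists_eigenvalue _
      obtain ⟨v, hv⟩ := hμ.exists_hasEigenvector
      have hμ0 : μ ≠ 0 := fun h0 => hv.2 (by
        have h := congrArg (ρ s⁻¹) hv.apply_eq_smul
        rwa [← Module.End.mul_apply, ← map_mul, inv_mul_cancel, map_one, Module.End.one_apply,
          h0, zero_smul, map_zero] at h)
      have hlam : ∀ g : T', ∃ c : K, ρ ((g : G) * s * (g : G)⁻¹) = c • ρ s := by
        intro g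
        have hg := Subgroup.mem_centralizer_singleton_iff.1 (Subgroup.mem_comap.1 g.2)
        have hz : (g : G) * s * (g : G)⁻¹ * s⁻¹ ∈ Z := by
          rw [← hker, MonoidHom.mem_ker]
          simp only [map_mul, map_inv]
          rw [hg]
          group
        obtain ⟨c, hc⟩ := (hZ _).1 hz
        refine ⟨c, ?_⟩
        rw [← inv_mul_cancel_right ((g : G) * s * (g : G)⁻¹) s, map_mul, hc, smul_mul_assoc,
          one_mul]
      choose lam hlam using hlam
      have hev : ∀ g : T', Module.End.HasEigenvalue (ρ s) (μ / lam g) ∧ lam g ≠ 0 := by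
        intro g
        have h1 : ρ ((g : G) * s * (g : G)⁻¹) (ρ (g : G) v) = μ • ρ (g : G) v := by
          rw [← Module.End.mul_apply, ← map_mul, inv_mul_cancel_right, map_mul,
            Module.End.mul_apply, hv.apply_eq_smul, map_smul]
        rw [hlam, LinearMap.smul_apply] at h1
        have hgv : ρ (g : G) v ≠ 0 := fun h0 => hv.2 (by
          have h := congrArg (ρ (g : G)⁻¹) h0
          rwa [← Module.End.mul_apply, ← map_mul, inv_mul_cancel, map_one, Module.End.one_apply,
            map_zero] at h)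
        have hl : lam g ≠ 0 := fun h0 => by
          rw [h0, zero_smul] at h1
          exact (smul_ne_zero hμ0 hgv) h1.symm
        refine ⟨Module.End.hasEigenvalue_of_hasEigenvector (x := ρ (g : G) v)
          ⟨Module.End.mem_eigenspace_iff.2 ?_, hgv⟩, hl⟩
        rw [div_eq_inv_mul, mul_smul, ← h1, smul_smul, inv_mul_cancel₀ hl, one_smul]
      have hidx : T.relIndex T' ≤ d := by
        haveI : Finite (Module.End.Eigenvalues (ρ s)) := Finite.of_fintype _
        let F : T' → Module.End.Eigenvalues (ρ s) := fun g => ⟨μ / lam g, (hev g).1⟩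
        have hF : ∀ a b : T', F a = F b → a⁻¹ * b ∈ T.subgroupOf T' := by
          intro a b h
          have h' : μ / lam a = μ / lam b := congrArg Subtype.val h
          have hab : lam a = lam b := by
            rw [div_eq_div_iff (hev a).2 (hev b).2] at h'
            exact (mul_left_cancel₀ hμ0 h').symm
          have e : (a : G) * s * (a : G)⁻¹ = (b : G) * s * (b : G)⁻¹ :=
            hρ (by rw [hlam, hlam, hab])
          rw [Subgroup.mem_subgroupOf, hT, Subgroup.mem_centralizer_singleton_iff]
          show ((a : G)⁻¹ * (b : G)) * s = s * ((a : G)⁻¹ * (b : G))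
          calc ((a : G)⁻¹ * (b : G)) * s = (a : G)⁻¹ * ((b : G) * s * (b : G)⁻¹) * b := by group
            _ = s * ((a : G)⁻¹ * b) := by rw [← e]; group
        have hinj : Function.Injective fun q : T' ⧸ T.subgroupOf T' => F q.out := fun a b h => by
          rw [← Quotient.out_eq a, ← Quotient.out_eq b]
          exact QuotientGroup.eq.2 (hF _ _ h)
        refine le_trans (Nat.card_le_card_of_injective _ hinj) ?_
        let _ := Fintype.ofFinite (Module.End.Eigenvalues (ρ s))
        rw [Nat.card_eq_fintype_card]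
        exact ((Module.End.eigenvectors_linearIndependent' (ρ s)
          (fun μ : Module.End.Eigenvalues (ρ s) => (μ : K)) Subtype.val_injective
          (fun μ => (Module.End.HasEigenvalue.exists_hasEigenvector μ.2).choose)
          (fun μ => (Module.End.HasEigenvalue.exists_hasEigenvector μ.2).choose_spec)).fintype_card_le_finrank).trans hd
      have hZT : Z ≤ T' := (hZc.trans (Subgroup.center_le_centralizer _)).trans hTT'
      have hcardC : Nat.card (Subgroup.centralizer ({π s} : Set (G ⧸ Z))) * Nat.card Z =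
          Nat.card T' := by
        rw [← Subgroup.relIndex_bot_left T', ← Subgroup.relIndex_mul_relIndex ⊥ Z T' bot_le hZT,
          Subgroup.relIndex_bot_left, mul_comm]
        congr 1
        conv_rhs => rw [← hker]
        rw [Subgroup.relIndex_ker, hT', Subgroup.map_comap_eq_self_of_surjective hsurj]
      refine Nat.le_of_mul_le_mul_right ?_ (Nat.card_pos (α := Z))
      rw [hcardC, ← Subgroup.relIndex_bot_left, ← Subgroup.relIndex_mul_relIndex ⊥ T T' bot_le hTT',
        Subgroup.relIndex_bot_left]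
      calc Nat.card T * T.relIndex T' ≤ J * J ^ (d * d) * Nat.card Z * d :=
            Nat.mul_le_mul hcardT hidx
        _ = _ := by ring

theorem bfProp (d : ℕ) : BFProp.{u, v, w} p m K d (bfBound (p ^ m) d) := by
  induction d with
  | zero =>
    intro V _ _ _ hV G _ _ _ ρ
    haveI : Subsingleton V := Module.finrank_zero_iff.1 (Nat.le_zero.1 hV)
    exact ⟨⊤, by rw [Subgroup.index_top]; rfl, fun a _ b _ => Subsingleton.elim _ _⟩
  | succ d ih =>
    intro V _ _ _ hV G _ _ hm ρ
    let φ : G →* (Module.End K V)ˣ := ρ.toHomUnits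
    let ρ' : Representation K (G ⧸ φ.ker) V :=
      (Units.coeHom (Module.End K V)).comp (QuotientGroup.kerLift φ)
    have hρ' : Function.Injective ρ' :=
      Units.val_injective.comp (QuotientGroup.kerLift_injective φ)
    have hm' : (Nat.card (G ⧸ φ.ker)).factorization p ≤ m :=
      factorization_le_of_dvd Nat.card_pos.ne' Nat.card_pos.ne'
        (Subgroup.card_quotient_dvd_card _) hm
    let Z0 : Submonoid (G ⧸ φ.ker) :=
      { carrier := {g | ∃ c : K, ρ' g = c • (1 : Module.End K V)}
        one_mem' := ⟨1, by rw [map_one, one_smul]⟩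
        mul_mem' := fun {a b} ⟨ca, ha⟩ ⟨cb, hb⟩ =>
          ⟨ca * cb, by rw [map_mul, ha, hb, smul_mul_smul_comm, one_mul]⟩ }
    let Z : Subgroup (G ⧸ φ.ker) :=
      { Z0 with
        inv_mem' := fun {g} hg => by
          have h : g⁻¹ = g ^ (orderOf g - 1) := by
            rw [inv_eq_iff_mul_eq_one, ← pow_succ', Nat.sub_add_cancel (orderOf_pos g),
              pow_orderOf_eq_one]
          show g⁻¹ ∈ Z0
          rw [h]
          exact Z0.pow_mem hg _ }
    set J := bfBound (p ^ m) d * bfBound (p ^ m) d * Nat.factorial (p ^ m) * p ^ m + 1 with hJ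
    obtain ⟨A, hA, hAi⟩ := exists_abelian_of_centralizers hm' ρ' hρ' Z (fun g => Iff.rfl)
      (J := J) (Nat.succ_pos _) hV (fun s hs => by
        have hs' : ¬ ∃ c : K, ρ' s = c • (1 : Module.End K V) := hs
        haveI : Nontrivial V := by
          by_contra hnt
          rw [not_nontrivial_iff_subsingleton] at hnt
          exact hs' ⟨1, LinearMap.ext fun v => Subsingleton.elim _ _⟩
        obtain ⟨μ, hμ⟩ := Module.End.exists_eigenvalue (ρ' s)
        obtain ⟨D, hD, hDab, hDrel⟩ := exists_abelian_of_invariant ih hV hm' ρ' hρ'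
          (Subgroup.centralizer ({s} : Set (G ⧸ φ.ker))) (Module.End.eigenspace (ρ' s) μ) hμ
          (fun htop => hs' ⟨μ, LinearMap.ext fun v => by
            have hv : v ∈ Module.End.eigenspace (ρ' s) μ := by rw [htop]; trivial
            exact Module.End.mem_eigenspace_iff.1 hv⟩)
          (fun g hg v hv => by
            have h := Module.End.mem_eigenspace_iff.1 hv
            rw [Module.End.mem_eigenspace_iff, ← Module.End.mul_apply, ← map_mul,
              ← Subgroup.mem_centralizer_singleton_iff.1 hg, map_mul, Module.End.mul_apply, h,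
              map_smul])
        exact ⟨D, hD, hDab, hDrel.trans (Nat.le_succ _)⟩)
    refine ⟨A.comap (QuotientGroup.mk' φ.ker), ?_, fun a ha b hb => ?_⟩
    · rw [Subgroup.index_comap_of_surjective _ (QuotientGroup.mk'_surjective _)]
      exact hAi.trans (Nat.le_add_right _ _)
    · have h := Subgroup.mem_centralizer_iff.1 (hA hb) _ ha
      have hr : ∀ x : G, ρ x = ρ' (QuotientGroup.mk' φ.ker x) := fun x => rfl
      rw [hr, hr, map_mul (QuotientGroup.mk' φ.ker), map_mul (QuotientGroup.mk' φ.ker), h]

end CfsgLib.BrauerFeit
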