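import Mathlib

/-!
# Unipotent elements and the automorphisms induced on abelian linear groups
-/

set_option autoImplicit false
set_option linter.unusedSectionVars false
set_option linter.style.haveILetI false

namespace CfsgLib.BrauerFeit

universe u v w

/-- All `p`-subgroups are small. -/
theorem card_le_of_isPGroup {G : Type u} [Group G] [Finite G] {p m : ℕ} [Fact p.Prime]
    (hm : (Nat.card G).factorization p ≤ m) {P : Subgroup G} (hP : IsPGroup p P) :
    ∃ k ≤ m, Nat.card P = p ^ k := by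
  obtain ⟨k, hk⟩ := IsPGroup.iff_card.1 hP
  refine ⟨k, le_trans ?_ hm, hk⟩
  have h := (Nat.factorization_le_iff_dvd Nat.card_pos.ne' Nat.card_pos.ne').2
    (Subgroup.card_subgroup_dvd_card P) p
  rwa [hk, (Fact.out : p.Prime).factorization_pow, Finsupp.single_eq_same] at h

variable {K : Type v} [Field K] [IsAlgClosed K] {p : ℕ} [Fact p.Prime] [CharP K p]
  {V : Type w} [AddCommGroup V] [Module K V] [FiniteDimensional K V]
  {G : Type u} [Group G] [Finite G] {m : ℕ}

theorem pow_char_pow_eq_one (ρ : Representation K G V) {g : G} {k : ℕ}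
    (h : (ρ g - 1) ^ k = 0) : ρ g ^ p ^ k = 1 := by
  rcases subsingleton_or_nontrivial (Module.End K V) with hs | hs
  · exact Subsingleton.elim _ _
  · haveI : CharP (Module.End K V) p := charP_of_injective_algebraMap
      (RingHom.injective (algebraMap K (Module.End K V))) p
    have h' := sub_pow_char_pow_of_commute p k (Commute.one_right (ρ g))
    rw [one_pow, pow_eq_zero_of_le ((Nat.lt_pow_self (Fact.out : p.Prime).one_lt).le) h] at h'
    exact sub_eq_zero.1 h'.symm

theorem orderOf_pow_of_unipotent (ρ : Representation K G V) (hρ : Function.Injective ρ) {g : G}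
    {k : ℕ} (h : (ρ g - 1) ^ k = 0) : g ^ p ^ k = 1 :=
  hρ (by rw [map_pow, map_one, pow_char_pow_eq_one ρ h])

/-- A weight of an abelian subgroup. -/
def IsWeight (ρ : Representation K G V) (W : Subgroup G) (χ : W →* K) : Prop :=
  ∃ v : V, v ≠ 0 ∧ ∀ w : W, ρ (w : G) v = χ w • v

theorem card_weights_le (ρ : Representation K G V) (W : Subgroup G)
    (s : Finset {χ : W →* K // IsWeight ρ W χ}) : s.card ≤ Module.finrank K V ^ 2 := by
  let L : Module.Dual K (Module.End K V) →ₗ[K] (W → K) :=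
    { toFun := fun φ w => φ (ρ (w : G))
      map_add' := fun _ _ => rfl
      map_smul' := fun _ _ => rfl }
  have hmem : ∀ χ : {χ : W →* K // IsWeight ρ W χ}, (χ.1 : W → K) ∈ LinearMap.range L := by
    intro χ
    obtain ⟨v, hv, hw⟩ := χ.2
    obtain ⟨f, hf⟩ := Module.Projective.exists_dual_ne_zero K hv
    refine ⟨(f v)⁻¹ • f.comp (LinearMap.applyₗ v), funext fun w => ?_⟩
    show (f v)⁻¹ * f (ρ (w : G) v) = _
    rw [hw, map_smul, smul_eq_mul, mul_left_comm, inv_mul_cancel₀ hf, mul_one]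
  have hind : LinearIndependent K (fun χ : s => (⟨_, hmem χ.1⟩ : LinearMap.range L)) := by
    apply LinearIndependent.of_comp (LinearMap.range L).subtype
    exact (linearIndependent_monoidHom W K).comp (fun χ : s => χ.1.1)
      (fun a b h => Subtype.ext (Subtype.ext h))
  have h1 := hind.fintype_card_le_finrank
  rw [Fintype.card_coe] at h1
  refine h1.trans (le_trans (LinearMap.finrank_range_le L) ?_)
  rw [Subspace.dual_finrank_eq, sq]
  exact le_of_eq (Module.finrank_linearMap K K V V)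

/-- A commuting family has a common eigenvector in every nonzero invariant subspace. -/
theorem exists_weight_vector (ρ : Representation K G V) {W : Subgroup G}
    (hW : ∀ a ∈ W, ∀ b ∈ W, a * b = b * a) {E : Submodule K V} (hE : E ≠ ⊥)
    (hinv : ∀ a ∈ W, ∀ v ∈ E, ρ a v ∈ E) :
    ∃ χ : W →* K, ∃ v ∈ E, v ≠ 0 ∧ ∀ w : W, ρ (w : G) v = χ w • v := by
  obtain ⟨U, ⟨hU, hUE, hUinv⟩, hUmin⟩ := WellFounded.has_min
    (wellFounded_lt (α := Submodule K V))
    {U | U ≠ ⊥ ∧ U ≤ E ∧ ∀ a ∈ W, ∀ v ∈ U, ρ a v ∈ U} ⟨E, hE, le_rfl, hinv⟩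
  haveI : Nontrivial U := Submodule.nontrivial_iff_ne_bot.2 hU
  have hsc : ∀ a : W, ∃ c : K, ∀ v ∈ U, ρ (a : G) v = c • v := by
    intro a
    obtain ⟨c, hc⟩ := Module.End.exists_eigenvalue ((ρ (a : G)).restrict (hUinv a a.2))
    obtain ⟨x, hx⟩ := hc.exists_hasEigenvector
    refine ⟨c, ?_⟩
    have hxv : ρ (a : G) (x : V) = c • (x : V) := congrArg Subtype.val hx.apply_eq_smul
    let U' : Submodule K V := U ⊓ Module.End.eigenspace (ρ (a : G)) c
    have hU' : U' = U := by
      by_contra hne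
      refine hUmin U' ⟨?_, inf_le_left.trans hUE,
        fun b hb v hv => ⟨hUinv b hb v hv.1, ?_⟩⟩ (lt_of_le_of_ne inf_le_left hne)
      · intro h0
        have : (x : V) ∈ U' := ⟨x.2, Module.End.mem_eigenspace_iff.2 hxv⟩
        rw [h0, Submodule.mem_bot] at this
        exact hx.2 (Subtype.ext this)
      · have h := Module.End.mem_eigenspace_iff.1 hv.2
        rw [SetLike.mem_coe, Module.End.mem_eigenspace_iff, ← Module.End.mul_apply, ← map_mul,
          hW a a.2 b hb, map_mul, Module.End.mul_apply, h, map_smul]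
    intro v hv
    rw [← hU'] at hv
    exact Module.End.mem_eigenspace_iff.1 hv.2
  choose c hc using hsc
  obtain ⟨v, hv, hv0⟩ := (Submodule.ne_bot_iff U).1 hU
  refine ⟨{ toFun := c, map_one' := ?_, map_mul' := fun a b => ?_ }, v, hUE hv, hv0,
    fun w => hc w v hv⟩
  · apply smul_left_injective K hv0
    show c 1 • v = (1 : K) • v
    rw [← hc 1 v hv, one_smul, Subgroup.coe_one, map_one, Module.End.one_apply]
  · apply smul_left_injective K hv0
    show c (a * b) • v = (c a * c b) • v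
    rw [← hc (a * b) v hv, Subgroup.coe_mul, map_mul, Module.End.mul_apply, hc b v hv, map_smul,
      hc a v hv, smul_smul, mul_comm]

/-- An element killed by all weights of an abelian subgroup is a `p`-element. -/
theorem pow_eq_one_of_weights (ρ : Representation K G V) (hρ : Function.Injective ρ)
    {W : Subgroup G} (hW : ∀ a ∈ W, ∀ b ∈ W, a * b = b * a) (w : W)
    (hw : ∀ χ : W →* K, IsWeight ρ W χ → χ w = 1) : ∃ k, (w : G) ^ p ^ k = 1 := by
  have hev : ∀ μ : K, μ ≠ 1 → ¬ Module.End.HasEigenvalue (ρ (w : G)) μ := by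
    intro μ hμ hev
    obtain ⟨χ, v, hv, hv0, hχ⟩ := exists_weight_vector ρ hW
      (E := Module.End.eigenspace (ρ (w : G)) μ) hev (fun a ha v hv => by
        have h := Module.End.mem_eigenspace_iff.1 hv
        rw [Module.End.mem_eigenspace_iff, ← Module.End.mul_apply, ← map_mul, hW _ w.2 a ha,
          map_mul, Module.End.mul_apply, h, map_smul])
    have h1 := hχ w
    rw [Module.End.mem_eigenspace_iff.1 hv, hw χ ⟨v, hv0, hχ⟩] at h1
    exact hμ (smul_left_injective K hv0 h1)
  have htop : Module.End.maxGenEigenspace (ρ (w : G)) 1 = ⊤ := by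
    rw [eq_top_iff, ← Module.End.iSup_maxGenEigenspace_eq_top (ρ (w : G))]
    refine iSup_le fun μ => ?_
    by_cases hμ : μ = 1
    · rw [hμ]
    · intro v hv
      obtain ⟨k, hk⟩ := (Module.End.mem_maxGenEigenspace _ _ _).1 hv
      by_cases hv0 : v = 0
      · rw [hv0]; exact Submodule.zero_mem _
      · exfalso
        apply hev μ hμ
        apply Module.End.hasEigenvalue_of_hasGenEigenvalue (k := k)
        intro hbot
        apply hv0
        rw [← Submodule.mem_bot K, ← hbot, Module.End.mem_genEigenspace_nat]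
        exact hk
  refine ⟨Module.finrank K V, orderOf_pow_of_unipotent ρ hρ ?_⟩
  rw [Module.End.maxGenEigenspace_eq_genEigenspace_finrank] at htop
  apply LinearMap.ext
  intro v
  have hv : v ∈ Module.End.genEigenspace (ρ (w : G)) 1 (Module.finrank K V) := by rw [htop]; trivial
  rw [Module.End.mem_genEigenspace_nat, one_smul] at hv
  exact hv

/-- The automorphisms induced on an abelian subgroup are bounded. -/
theorem relIndex_centralizer_le (ρ : Representation K G V) (hρ : Function.Injective ρ)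
    (hm : (Nat.card G).factorization p ≤ m) (W : Subgroup G)
    (hW : W ≤ Subgroup.centralizer (W : Set G)) :
    (Subgroup.centralizer (W : Set G)).relIndex (Subgroup.normalizer (W : Set G)) ≤
      Nat.factorial (Module.finrank K V ^ 2) * Nat.factorial (p ^ m) := by
  classical
  have hcomm : ∀ a ∈ W, ∀ b ∈ W, a * b = b * a := fun a ha b hb =>
    (Subgroup.mem_centralizer_iff.1 (hW hb)) a ha
  set N := Subgroup.normalizer (W : Set G) with hN
  haveI : Finite {χ : W →* K // IsWeight ρ W χ} := by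
    by_contra hinf
    rw [not_finite_iff_infinite] at hinf
    obtain ⟨s, hs⟩ := Infinite.exists_subset_card_eq {χ : W →* K // IsWeight ρ W χ}
      (Module.finrank K V ^ 2 + 1)
    have := card_weights_le ρ W s
    omega
  let _ := Fintype.ofFinite {χ : W →* K // IsWeight ρ W χ}
  have hcardΛ : Nat.card {χ : W →* K // IsWeight ρ W χ} ≤ Module.finrank K V ^ 2 := by
    rw [Nat.card_eq_fintype_card]
    exact card_weights_le ρ W Finset.univ
  -- the transport
  let cw : N → W → W := fun g w => ⟨(g : G) * w * (g : G)⁻¹,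
    (Subgroup.mem_normalizer_iff.1 g.2 w).1 w.2⟩
  have hcw : ∀ g (w : W), (cw g w : G) = (g : G) * w * (g : G)⁻¹ := fun _ _ => rfl
  -- the elements fixing all weights
  let N0 : Subgroup N :=
    { carrier := {g | ∀ χ : W →* K, IsWeight ρ W χ → ∀ w : W, χ (cw g w) = χ w}
      one_mem' := fun χ _ w => congrArg χ (Subtype.ext (by simp [hcw]))
      mul_mem' := fun {a b} ha hb χ hχ w => by
        rw [show cw (a * b) w = cw a (cw b w) from Subtype.ext (by simp [hcw, mul_assoc]),
          ha χ hχ, hb χ hχ]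
      inv_mem' := fun {a} ha χ hχ w => by
        conv_rhs => rw [show w = cw a (cw a⁻¹ w) from Subtype.ext (by simp [hcw, mul_assoc]),
          ha χ hχ] }
  have hN0mem : ∀ g : N, g ∈ N0 ↔
      ∀ χ : W →* K, IsWeight ρ W χ → ∀ w : W, χ (cw g w) = χ w := fun _ => Iff.rfl
  let tw : N → {χ : W →* K // IsWeight ρ W χ} → {χ : W →* K // IsWeight ρ W χ} := fun g χ =>
    ⟨{ toFun := fun w => χ.1 (cw g⁻¹ w)
       map_one' := by
        rw [show cw g⁻¹ 1 = 1 from Subtype.ext (by simp [hcw])]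
        exact map_one _
       map_mul' := fun a b => by
        rw [show cw g⁻¹ (a * b) = cw g⁻¹ a * cw g⁻¹ b from
          Subtype.ext (by simp [hcw, mul_assoc])]
        exact map_mul _ _ _ }, by
      obtain ⟨v, hv, hχ⟩ := χ.2
      refine ⟨ρ (g : G) v, fun h0 => hv ?_, fun w => ?_⟩
      · have := congrArg (ρ (g : G)⁻¹) h0
        rwa [← Module.End.mul_apply, ← map_mul, inv_mul_cancel, map_one, Module.End.one_apply,
          map_zero] at this
      · show _ = χ.1 (cw g⁻¹ w) • _
        rw [← map_smul, ← hχ, ← Module.End.mul_apply, ← Module.End.mul_apply, ← map_mul,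
          ← map_mul, hcw]
        congr 2
        simp [mul_assoc]⟩
  have h0 : N0.index ≤ Nat.factorial (Module.finrank K V ^ 2) := by
    letI : MulAction N {χ : W →* K // IsWeight ρ W χ} :=
      { smul := tw
        one_smul := fun χ => Subtype.ext (MonoidHom.ext fun w =>
          congrArg χ.1 (Subtype.ext (by simp [hcw])))
        mul_smul := fun a b χ => Subtype.ext (MonoidHom.ext fun w =>
          congrArg χ.1 (Subtype.ext (by simp [hcw, mul_assoc]))) }
    have hker : (MulAction.toPermHom N {χ : W →* K // IsWeight ρ W χ}).ker ≤ N0 := by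
      intro g hg χ hχ w
      have h2 : g • (⟨χ, hχ⟩ : {χ : W →* K // IsWeight ρ W χ}) = ⟨χ, hχ⟩ :=
        Equiv.ext_iff.1 (MonoidHom.mem_ker.1 hg) _
      have h3 := DFunLike.congr_fun (Subtype.ext_iff.1 h2) (cw g w)
      change χ (cw g⁻¹ (cw g w)) = χ (cw g w) at h3
      rw [← h3]
      exact congrArg χ (Subtype.ext (by simp [hcw, mul_assoc]))
    refine (Nat.le_of_dvd (Nat.pos_of_ne_zero Subgroup.index_ne_zero_of_finite)
      (Subgroup.index_dvd_of_le hker)).trans ?_
    rw [Subgroup.index_ker]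
    refine (Subgroup.card_le_card_group _).trans ?_
    rw [Nat.card_perm]
    exact Nat.factorial_le hcardΛ
  -- the unipotent part
  let U : Subgroup G :=
    { carrier := {x | ∃ hx : x ∈ W, ∀ χ : W →* K, IsWeight ρ W χ → χ ⟨x, hx⟩ = 1}
      one_mem' := ⟨W.one_mem, fun χ _ => map_one χ⟩
      mul_mem' := fun {a b} ⟨ha, ha'⟩ ⟨hb, hb'⟩ => ⟨W.mul_mem ha hb, fun χ hχ => by
        rw [show (⟨a * b, W.mul_mem ha hb⟩ : W) = ⟨a, ha⟩ * ⟨b, hb⟩ from rfl, map_mul,
          ha' χ hχ, hb' χ hχ, mul_one]⟩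
      inv_mem' := fun {a} ⟨ha, ha'⟩ => ⟨W.inv_mem ha, fun χ hχ => by
        have h : χ ⟨a, ha⟩ * χ ⟨a⁻¹, W.inv_mem ha⟩ = 1 := by
          rw [← map_mul, show (⟨a, ha⟩ : W) * ⟨a⁻¹, W.inv_mem ha⟩ = 1 from
            Subtype.ext (mul_inv_cancel a), map_one]
        rwa [ha' χ hχ, one_mul] at h⟩ }
  have hUp : IsPGroup p U := fun ⟨x, hx, hx'⟩ => by
    obtain ⟨k, hk⟩ := pow_eq_one_of_weights (p := p) ρ hρ hcomm ⟨x, hx⟩ hx'
    exact ⟨k, Subtype.ext hk⟩
  obtain ⟨kU, hkU, hUcard⟩ := card_le_of_isPGroup hm hUp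
  have hUexp : ∀ x ∈ U, x ^ p ^ m = 1 := fun x hx => by
    have h : (⟨x, hx⟩ : U) ^ Nat.card U = 1 := pow_card_eq_one'
    have h' : x ^ p ^ kU = 1 := by
      rw [← hUcard]
      exact congrArg Subtype.val h
    obtain ⟨d, hd⟩ := Nat.pow_dvd_pow p hkU
    rw [hd, pow_mul, h', one_pow]
  have hUnorm : ∀ g : N, ∀ x, x ∈ U → (g : G) * x * (g : G)⁻¹ ∈ U := by
    intro g x ⟨hx, hx'⟩
    refine ⟨(Subgroup.mem_normalizer_iff.1 g.2 x).1 hx, fun χ hχ => ?_⟩
    have := hx' _ (tw g⁻¹ ⟨χ, hχ⟩).2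
    change χ (cw g⁻¹⁻¹ ⟨x, hx⟩) = 1 at this
    rw [← this]
    exact congrArg χ (Subtype.ext (by simp [hcw]))
  letI : MulAction N U :=
    { smul := fun g x => ⟨(g : G) * x * (g : G)⁻¹, hUnorm g x x.2⟩
      one_smul := fun x => Subtype.ext (show ((1 : N) : G) * x * ((1 : N) : G)⁻¹ = x by simp)
      mul_smul := fun a b x => Subtype.ext (show ((a * b : N) : G) * x * ((a * b : N) : G)⁻¹ =
        (a : G) * ((b : G) * x * (b : G)⁻¹) * (a : G)⁻¹ by simp [mul_assoc]) }
  have h1 : (MulAction.toPermHom N U).ker.index ≤ Nat.factorial (p ^ m) := by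
    rw [Subgroup.index_ker]
    refine (Subgroup.card_le_card_group _).trans ?_
    rw [Nat.card_perm, hUcard]
    exact Nat.factorial_le (Nat.pow_le_pow_right (Fact.out : p.Prime).pos hkU)
  have hle : N0 ⊓ (MulAction.toPermHom N U).ker ≤
      (Subgroup.centralizer (W : Set G)).subgroupOf N := by
    rintro g ⟨hg0, hg1⟩
    have hfix : ∀ x ∈ U, (g : G) * x = x * (g : G) := fun x hx => by
      have h : g • (⟨x, hx⟩ : U) = ⟨x, hx⟩ := Equiv.ext_iff.1 (MonoidHom.mem_ker.1 hg1) _
      have h' : (g : G) * x * (g : G)⁻¹ = x := congrArg Subtype.val h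
      calc (g : G) * x = (g : G) * x * (g : G)⁻¹ * (g : G) := by group
        _ = x * (g : G) := by rw [h']
    rw [Subgroup.mem_subgroupOf, Subgroup.mem_centralizer_iff]
    intro w hw
    -- the `p`-power part
    have hu : (cw g ⟨w, hw⟩ : G) * w⁻¹ ∈ U := by
      refine ⟨W.mul_mem (cw g ⟨w, hw⟩).2 (W.inv_mem hw), fun χ hχ => ?_⟩
      rw [show (⟨(cw g ⟨w, hw⟩ : G) * w⁻¹, W.mul_mem (cw g ⟨w, hw⟩).2 (W.inv_mem hw)⟩ : W) =
        cw g ⟨w, hw⟩ * (⟨w, hw⟩ : W)⁻¹ from rfl, map_mul, (hN0mem g).1 hg0 χ hχ, ← map_mul,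
        mul_inv_cancel, map_one]
    have hq : Commute (g : G) (w ^ p ^ m) := by
      have h : ((g : G) * w * (g : G)⁻¹) ^ p ^ m = w ^ p ^ m := by
        have hc : Commute ((cw g ⟨w, hw⟩ : G) * w⁻¹) w :=
          hcomm _ (W.mul_mem (cw g ⟨w, hw⟩).2 (W.inv_mem hw)) _ hw
        have e := hc.mul_pow (p ^ m)
        rwa [inv_mul_cancel_right, hUexp _ hu, one_mul, hcw] at e
      rw [conj_pow] at h
      show (g : G) * w ^ p ^ m = w ^ p ^ m * (g : G)
      calc (g : G) * w ^ p ^ m = (g : G) * w ^ p ^ m * (g : G)⁻¹ * (g : G) := by group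
        _ = w ^ p ^ m * (g : G) := by rw [h]
    obtain ⟨a, r, hr, hd⟩ := Nat.exists_eq_pow_mul_and_not_dvd (orderOf_pos w).ne' p
      (Fact.out : p.Prime).ne_one
    have hrU : w ^ r ∈ U := by
      refine ⟨W.pow_mem hw r, fun χ _ => ?_⟩
      have h : χ ⟨w ^ r, W.pow_mem hw r⟩ ^ p ^ a = 1 := by
        rw [← map_pow, ← map_one χ]
        congr 1
        apply Subtype.ext
        show (w ^ r) ^ p ^ a = 1
        rw [← pow_mul, mul_comm, ← hd, pow_orderOf_eq_one]
      have h' := sub_pow_char_pow (p := p) (χ ⟨w ^ r, W.pow_mem hw r⟩) (1 : K) a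
      rw [h, one_pow, sub_self] at h'
      exact sub_eq_zero.1 (pow_eq_zero_iff (pow_pos (Fact.out : p.Prime).pos a).ne' |>.1 h')
    have hr' : Commute (g : G) (w ^ r) := hfix _ hrU
    have hcop : Nat.Coprime (p ^ m) r :=
      Nat.Coprime.pow_left _ ((Fact.out : p.Prime).coprime_iff_not_dvd.2 hr)
    have hbez := Nat.gcd_eq_gcd_ab (p ^ m) r
    rw [hcop, Nat.cast_one] at hbez
    have hw' : w = (w ^ p ^ m) ^ Nat.gcdA (p ^ m) r * (w ^ r) ^ Nat.gcdB (p ^ m) r := by
      rw [← zpow_natCast w (p ^ m), ← zpow_natCast w r, ← zpow_mul, ← zpow_mul, ← zpow_add,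
        ← hbez, zpow_one]
    rw [hw']
    exact ((hq.zpow_right _).mul_right (hr'.zpow_right _)).eq.symm
  calc (Subgroup.centralizer (W : Set G)).relIndex N
      = ((Subgroup.centralizer (W : Set G)).subgroupOf N).index := rfl
    _ ≤ (N0 ⊓ (MulAction.toPermHom N U).ker).index :=
        Nat.le_of_dvd (Nat.pos_of_ne_zero Subgroup.index_ne_zero_of_finite)
          (Subgroup.index_dvd_of_le hle)
    _ ≤ N0.index * (MulAction.toPermHom N U).ker.index := Subgroup.index_inf_le
    _ ≤ _ := Nat.mul_le_mul h0 h1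

end CfsgLib.BrauerFeit
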