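import Cfsg.Agent.Lib.BrauerFeit.Count
import Cfsg.Agent.Lib.BrauerFeit.Unipotent

/-!
# Abelian subgroups of bounded index in linear groups with abelian-by-bounded centralisers

Stable abelian subgroups (no subgroup of small index has a larger centraliser) commute with each
other as soon as they commute with a common non-central element; the resulting classes feed Jordan's
counting argument.
-/

set_option autoImplicit false
set_option linter.unusedSectionVars false
set_option linter.style.haveILetI false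

namespace CfsgLib.BrauerFeit

universe u v w

variable {K : Type v} [Field K] [IsAlgClosed K] {p : ℕ} [Fact p.Prime] [CharP K p]
  {V : Type w} [AddCommGroup V] [Module K V] [FiniteDimensional K V]
  {G : Type u} [Group G] [Finite G] {m : ℕ}

theorem le_centralizer_sup {A B : Subgroup G} (hA : A ≤ Subgroup.centralizer (A : Set G))
    (hB : B ≤ Subgroup.centralizer (B : Set G)) (hAB : A ≤ Subgroup.centralizer (B : Set G)) :
    A ⊔ B ≤ Subgroup.centralizer ((A ⊔ B : Subgroup G) : Set G) :=
  sup_le (Subgroup.le_centralizer_iff.1 (sup_le hA (Subgroup.le_centralizer_iff.1 hAB)))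
    (Subgroup.le_centralizer_iff.1 (sup_le hAB hB))

/-- The endomorphisms commuting with a subgroup. -/
def commutant (ρ : Representation K G V) (E : Subgroup G) : Submodule K (Module.End K V) where
  carrier := {T | ∀ e ∈ E, T * ρ e = ρ e * T}
  add_mem' := fun {a b} ha hb e he => by rw [add_mul, mul_add, ha e he, hb e he]
  zero_mem' := fun e _ => by rw [zero_mul, mul_zero]
  smul_mem' := fun c a ha e he => by rw [smul_mul_assoc, mul_smul_comm, ha e he]

theorem mem_commutant_iff (ρ : Representation K G V) (hρ : Function.Injective ρ) (E : Subgroup G)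
    (g : G) : ρ g ∈ commutant ρ E ↔ g ∈ Subgroup.centralizer (E : Set G) := by
  rw [Subgroup.mem_centralizer_iff]
  refine forall₂_congr fun e _ => ?_
  rw [← map_mul, ← map_mul, hρ.eq_iff, eq_comm]

/-- An abelian subgroup none of whose subgroups of index at most `J` has a larger centraliser. -/
def Good (J : ℕ) (E : Subgroup G) : Prop :=
  ∀ E' ≤ E, E'.relIndex E ≤ J →
    Subgroup.centralizer (E' : Set G) ≤ Subgroup.centralizer (E : Set G)

theorem exists_good (ρ : Representation K G V) (hρ : Function.Injective ρ) {J : ℕ} (hJ : 0 < J)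
    (X : Subgroup G) :
    ∃ E ≤ X, E.relIndex X ≤ J ^ (Module.finrank K V * Module.finrank K V) ∧ Good J E := by
  suffices h : ∀ (d : ℕ) (X : Subgroup G),
      Module.finrank K V * Module.finrank K V ≤ Module.finrank K (commutant ρ X) + d →
      ∃ E ≤ X, E.relIndex X ≤ J ^ d ∧ Good J E from h _ X (Nat.le_add_left _ _)
  intro d
  induction d using Nat.strong_induction_on with
  | _ d ih =>
    intro X hd
    by_cases hX : Good J X
    · exact ⟨X, le_rfl, by rw [Subgroup.relIndex_self]; exact Nat.one_le_pow _ _ hJ, hX⟩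
    · simp only [Good] at hX
      push Not at hX
      obtain ⟨E', hE', hrel, hlt⟩ := hX
      have hmono : commutant ρ X ≤ commutant ρ E' := fun T hT e he => hT e (hE' he)
      have hne : commutant ρ X ≠ commutant ρ E' := fun h => hlt fun g hg => by
        rw [← mem_commutant_iff ρ hρ] at hg ⊢
        rwa [h]
      have hfl := Submodule.finrank_lt_finrank_of_lt (lt_of_le_of_ne hmono hne)
      have hle : Module.finrank K (commutant ρ E') ≤ Module.finrank K V * Module.finrank K V :=
        (Submodule.finrank_le _).trans (le_of_eq (Module.finrank_linearMap K K V V))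
      obtain ⟨d, rfl⟩ : ∃ d', d = d' + 1 := ⟨d - 1, by omega⟩
      obtain ⟨E, hE, hErel, hgood⟩ := ih d (Nat.lt_succ_self _) E' (by omega)
      refine ⟨E, hE.trans hE', ?_, hgood⟩
      rw [← Subgroup.relIndex_mul_relIndex E E' X hE hE', pow_succ]
      exact Nat.mul_le_mul hErel hrel

section Classes

variable (Z : Subgroup G) (J : ℕ)

/-- A stable abelian subgroup. -/
def Stable (E : Subgroup G) : Prop :=
  E ≤ Subgroup.centralizer (E : Set G) ∧ ¬ E ≤ Z ∧ Good J E

/-- The class of a stable subgroup. -/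
def cls (E : Subgroup G) : Subgroup G :=
  Z ⊔ sSup {E' | Stable Z J E' ∧ E' ≤ Subgroup.centralizer (E : Set G)}

variable {Z J}

variable (hC : ∀ s : G, s ∉ Z → ∃ D : Subgroup G, D ≤ Subgroup.centralizer ({s} : Set G) ∧
  D ≤ Subgroup.centralizer (D : Set G) ∧ D.relIndex (Subgroup.centralizer ({s} : Set G)) ≤ J)

include hC

/-- Stable subgroups commuting with a common non-central element commute. -/
theorem commute_of_common {s : G} (hs : s ∉ Z) {E E' : Subgroup G} (hE : Stable Z J E)
    (hE' : Stable Z J E') (hsE : s ∈ Subgroup.centralizer (E : Set G))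
    (hsE' : s ∈ Subgroup.centralizer (E' : Set G)) : E ≤ Subgroup.centralizer (E' : Set G) := by
  obtain ⟨D, hD, hDab, hDrel⟩ := hC s hs
  have hle : ∀ F : Subgroup G, s ∈ Subgroup.centralizer (F : Set G) →
      F ≤ Subgroup.centralizer ({s} : Set G) := fun F hF x hx => by
    rw [Subgroup.mem_centralizer_singleton_iff]
    exact Subgroup.mem_centralizer_iff.1 hF x hx
  have hrel : ∀ F : Subgroup G, s ∈ Subgroup.centralizer (F : Set G) → (D ⊓ F).relIndex F ≤ J :=
    fun F hF => by
      rw [Subgroup.inf_relIndex_right]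
      refine (Subgroup.relIndex_le_of_le_right (hle F hF) ?_).trans hDrel
      exact Subgroup.index_ne_zero_of_finite
  have h1 : (D ⊓ E' : Subgroup G) ≤ Subgroup.centralizer ((D ⊓ E : Subgroup G) : Set G) :=
    le_trans inf_le_left (hDab.trans (Subgroup.centralizer_le (fun x hx => hx.1)))
  have h2 : (D ⊓ E' : Subgroup G) ≤ Subgroup.centralizer (E : Set G) :=
    h1.trans (hE.2.2 _ inf_le_right (hrel E hsE))
  exact (Subgroup.le_centralizer_iff.1 h2).trans (hE'.2.2 _ inf_le_right (hrel E' hsE'))

theorem le_centralizer_of_mem_cls {E E' E'' : Subgroup G} (hE : Stable Z J E)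
    (hE' : Stable Z J E') (hE'' : Stable Z J E'') (h' : E' ≤ Subgroup.centralizer (E : Set G))
    (h'' : E'' ≤ Subgroup.centralizer (E : Set G)) : E' ≤ Subgroup.centralizer (E'' : Set G) := by
  obtain ⟨s, hs, hsZ⟩ := SetLike.not_le_iff_exists.1 hE.2.1
  exact commute_of_common hC hsZ hE' hE'' (Subgroup.le_centralizer_iff.1 h' hs)
    (Subgroup.le_centralizer_iff.1 h'' hs)

theorem cls_eq {E E' : Subgroup G} (hE : Stable Z J E) (hE' : Stable Z J E')
    (h : E ≤ Subgroup.centralizer (E' : Set G)) : cls Z J E = cls Z J E' := by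
  unfold cls
  congr 2
  ext F
  refine ⟨fun ⟨hF, hFE⟩ => ⟨hF, le_centralizer_of_mem_cls hC hE hF hE' hFE
    (Subgroup.le_centralizer_iff.1 h)⟩, fun ⟨hF, hFE⟩ => ⟨hF, ?_⟩⟩
  exact le_centralizer_of_mem_cls hC hE' hF hE hFE h

theorem cls_abelian (hZc : Z ≤ Subgroup.center G) {E : Subgroup G} (hE : Stable Z J E) :
    cls Z J E ≤ Subgroup.centralizer (cls Z J E : Set G) := by
  have hZ : ∀ H : Subgroup G, Z ≤ Subgroup.centralizer (H : Set G) := fun H =>
    hZc.trans (Subgroup.center_le_centralizer _)
  refine le_centralizer_sup (hZ _) ?_ (hZ _)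
  refine sSup_le fun F hF => Subgroup.le_centralizer_iff.1 ?_
  refine sSup_le fun F' hF' => ?_
  exact le_centralizer_of_mem_cls hC hE hF'.1 hF.1 hF'.2 hF.2

end Classes

theorem le_cls {Z : Subgroup G} {J : ℕ} {E : Subgroup G} (hE : Stable Z J E) : E ≤ cls Z J E :=
  le_sup_of_le_right (le_sSup ⟨hE, hE.1⟩)

theorem mem_centralizer_map_iff (φ : G →* G) (hφ : Function.Bijective φ) (H : Subgroup G) (x : G) :
    φ x ∈ Subgroup.centralizer (H.map φ : Set G) ↔ x ∈ Subgroup.centralizer (H : Set G) := by
  simp only [Subgroup.mem_centralizer_iff, Subgroup.coe_map, Set.forall_mem_image, ← map_mul,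
    hφ.1.eq_iff]

theorem stable_map {Z : Subgroup G} (hZc : Z ≤ Subgroup.center G) {J : ℕ} (g : G)
    {E : Subgroup G} (hE : Stable Z J E) : Stable Z J (cjS g E) := by
  set φ := (MulAut.conj g).toMonoidHom with hφ
  have hb : Function.Bijective φ := (MulAut.conj g).bijective
  refine ⟨?_, ?_, ?_⟩
  · rintro x ⟨e, he, rfl⟩
    exact (mem_centralizer_map_iff φ hb E e).2 (hE.1 he)
  · intro h
    apply hE.2.1
    intro e he
    have hz := h (Subgroup.mem_map_of_mem φ he)
    have : φ e = e := by
      have hc := (Subgroup.mem_center_iff.1 (hZc hz)) g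
      simp only [hφ, MulEquiv.toMonoidHom_eq_coe, MonoidHom.coe_coe, MulAut.conj_apply] at hc ⊢
      have h2 : g * e * g⁻¹ * g = g * (g * e * g⁻¹) := hc.symm
      rw [inv_mul_cancel_right] at h2
      exact (mul_left_cancel h2).symm
    rwa [this] at hz
  · intro F hF hrel x hx
    obtain ⟨y, rfl⟩ := hb.2 x
    rw [show F = (F.comap φ).map φ from (Subgroup.map_comap_eq_self_of_surjective hb.2 F).symm]
      at hx hrel
    rw [mem_centralizer_map_iff φ hb] at hx
    rw [cjS, Subgroup.relIndex_map_map_of_injective _ _ hb.1] at hrel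
    refine (mem_centralizer_map_iff φ hb E y).2 (hE.2.2 _ ?_ hrel hx)
    intro z hz
    obtain ⟨e, he, hez⟩ := hF hz
    exact hb.1 hez ▸ he

theorem cls_map {Z : Subgroup G} (hZc : Z ≤ Subgroup.center G) {J : ℕ} (g : G) (E : Subgroup G) :
    cjS g (cls Z J E) = cls Z J (cjS g E) := by
  have hle : ∀ (g : G) (E : Subgroup G), cjS g (cls Z J E) ≤ cls Z J (cjS g E) := by
    intro g E
    rw [cjS, cls, Subgroup.map_sup, (Subgroup.gc_map_comap _).l_sSup]
    refine sup_le ?_ (iSup₂_le fun F hF => ?_)
    · rintro x ⟨z, hz, rfl⟩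
      have : g * z * g⁻¹ = z := by rw [Subgroup.mem_center_iff.1 (hZc hz) g, mul_inv_cancel_right]
      exact Subgroup.mem_sup_left (by simpa [this] using hz)
    · refine le_sup_of_le_right (le_sSup ⟨stable_map hZc g hF.1, ?_⟩)
      rintro x ⟨y, hy, rfl⟩
      exact (mem_centralizer_map_iff _ (MulAut.conj g).bijective E y).2 (hF.2 hy)
  refine le_antisymm (hle g E) ?_
  intro x hx
  have h := hle g⁻¹ (cjS g E)
  rw [← cjS_mul, inv_mul_cancel, cjS_one] at h
  rw [mem_cjS]
  apply h
  rw [mem_cjS]
  simpa [mul_assoc] using hx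

theorem cjS_eq_self_of_commute {E : Subgroup G} {s : G}
    (hs : s ∈ Subgroup.centralizer (E : Set G)) : cjS s E = E := by
  rw [cjS_eq_self_iff]
  exact Subgroup.centralizer_le_normalizer (E : Set G) hs

theorem cjS_map_mk (Z : Subgroup G) [Z.Normal] (g : G) (W : Subgroup G) :
    cjS (QuotientGroup.mk' Z g) (W.map (QuotientGroup.mk' Z)) =
      (cjS g W).map (QuotientGroup.mk' Z) := by
  rw [cjS, cjS, Subgroup.map_map, Subgroup.map_map]
  congr 1

theorem map_mk_inj (Z : Subgroup G) [Z.Normal] {W W' : Subgroup G} (hW : Z ≤ W) (hW' : Z ≤ W')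
    (h : W.map (QuotientGroup.mk' Z) = W'.map (QuotientGroup.mk' Z)) : W = W' := by
  have := congrArg (Subgroup.comap (QuotientGroup.mk' Z)) h
  rwa [Subgroup.comap_map_eq_self (by rwa [QuotientGroup.ker_mk']),
    Subgroup.comap_map_eq_self (by rwa [QuotientGroup.ker_mk'])] at this

end CfsgLib.BrauerFeit
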